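import Groth.Agent.S0389
import Groth.Agent.FlatCxLib.Algebra
import Mathlib.Algebra.Polynomial.Module.Basic
import Mathlib.RingTheory.Flat.EquationalCriterion
import Mathlib.RingTheory.FiniteType

/-!
# Generic flatness of the cokernel of a map from an `A`-module to a `B`-module

The lemma of Hochster and Roberts: if `R → A → B` are of finite type, `R` a domain, `N` a finite
`B`-module and `P ⊆ N` a finitely generated `A`-submodule, then `(N ⧸ P)_f` is flat over `R_f` for
some `f ≠ 0`.
-/

set_option autoImplicit false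
set_option backward.isDefEq.respectTransparency false

universe u

open TensorProduct Function

namespace Groth.Agent.FlatMorGF

section Base

variable {R : Type u} [CommRing R] {L : Type u} [CommRing L] [Algebra R L] [Module.Flat R L]

/-- A module which is an increasing union of submodules with flat base change has flat base change. -/
theorem flat_baseChange_of_iUnion {C : Type u} [AddCommGroup C] [Module R C] (P : ℕ → Submodule R C)
    (hmono : Monotone P) (hex : ∀ c, ∃ n, c ∈ P n) (h : ∀ n, Module.Flat L (L ⊗[R] P n)) :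
    Module.Flat L (L ⊗[R] C) := by
  let η := fun n => ((P n).subtype).baseChange L
  have hη : ∀ n, Injective (η n) := fun n =>
    Module.Flat.lTensor_preserves_injective_linearMap _ Subtype.val_injective
  have hle : ∀ {a b : ℕ}, a ≤ b → LinearMap.range (η a) ≤ LinearMap.range (η b) := fun {a b} hab => by
    rintro _ ⟨z, rfl⟩
    refine ⟨(Submodule.inclusion (hmono hab)).baseChange L z, ?_⟩
    rw [← LinearMap.comp_apply, ← LinearMap.baseChange_comp]
    rfl
  have hmem : ∀ z : L ⊗[R] C, ∃ n, z ∈ LinearMap.range (η n) := fun z => by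
    induction z with
    | zero => exact ⟨0, zero_mem _⟩
    | tmul l c => obtain ⟨n, hn⟩ := hex c; exact ⟨n, l ⊗ₜ ⟨c, hn⟩, rfl⟩
    | add a b ha hb =>
      obtain ⟨m, hm⟩ := ha
      obtain ⟨n, hn⟩ := hb
      exact ⟨max m n, add_mem (hle (le_max_left m n) hm) (hle (le_max_right m n) hn)⟩
  refine Module.Flat.of_forall_isTrivialRelation fun {l f x} hx => ?_
  choose N hN using fun i => hmem (x i)
  have hN' : ∀ i, x i ∈ LinearMap.range (η (Finset.univ.sup N)) := fun i =>
    hle (Finset.le_sup (f := N) (Finset.mem_univ i)) (hN i)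
  choose y hy using hN'
  have h0 : ∑ i, f i • y i = 0 := hη _ (by rw [map_sum, map_zero]; simp only [map_smul, hy]; exact hx)
  have := h (Finset.univ.sup N)
  obtain ⟨k, a, w, hw, ha⟩ := Module.Flat.isTrivialRelation_of_sum_smul_eq_zero h0
  exact ⟨k, a, fun j => η _ (w j), fun i => by rw [← hy i, hw i, map_sum]; simp only [map_smul], ha⟩

/-- Flat base change of an extension. -/
theorem flat_baseChange_of_exact {N₁ N₂ N₃ : Type u} [AddCommGroup N₁] [AddCommGroup N₂] [AddCommGroup N₃]
    [Module R N₁] [Module R N₂] [Module R N₃] (i : N₁ →ₗ[R] N₂) (p : N₂ →ₗ[R] N₃)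
    (hex : Exact i p) (hp : Surjective p) (hi : Injective i) [Module.Flat L (L ⊗[R] N₁)]
    [Module.Flat L (L ⊗[R] N₃)] : Module.Flat L (L ⊗[R] N₂) :=
  FlatCxLib.flat_of_exact_mid (i.baseChange L) (p.baseChange L) (lTensor_exact L hex hp)
    (LinearMap.lTensor_surjective L hp) (Module.Flat.lTensor_preserves_injective_linearMap i hi)

end Base

section Seq

variable {A B N : Type u} [CommRing A] [CommRing B] [Algebra A B] [AddCommGroup N] [Module B N]
  [Module A N] [IsScalarTower A B N] {r : ℕ} (b : Fin r → B) (Q : Submodule A N)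

/-- `Q`, `Q + ∑ b_k Q`, … -/
def seq : ℕ → Submodule A N
  | 0 => Q
  | n + 1 => seq n ⊔ ⨆ k, (seq n).map ((LinearMap.lsmul B N (b k)).restrictScalars A)

theorem seq_mono : Monotone (seq b Q) :=
  monotone_nat_of_le_succ fun _ => le_sup_left

theorem smul_mem_seq (k : Fin r) {n : ℕ} {x : N} (hx : x ∈ seq b Q n) : b k • x ∈ seq b Q (n + 1) :=
  le_sup_right (a := seq b Q n) (le_iSup (fun k => (seq b Q n).map
    ((LinearMap.lsmul B N (b k)).restrictScalars A)) k ⟨x, hx, rfl⟩)

theorem exists_mem_seq (π : MvPolynomial (Fin r) A →ₐ[A] B) (hπ : Surjective π)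
    (hb : ∀ k, π (MvPolynomial.X k) = b k) {Y : Finset N} (hY : ↑Y ⊆ (Q : Set N))
    (hgen : Submodule.span B (Y : Set N) = ⊤) (x : N) : ∃ n, x ∈ seq b Q n := by
  have hS : ∀ (c : B) (n : ℕ) (x : N), x ∈ seq b Q n → ∃ m, c • x ∈ seq b Q m := by
    intro c
    obtain ⟨p, rfl⟩ := hπ c
    induction p using MvPolynomial.induction_on with
    | C a => exact fun n x hx => ⟨n, by
        rw [← MvPolynomial.algebraMap_eq, AlgHom.commutes, algebraMap_smul]; exact Submodule.smul_mem _ a hx⟩
    | add p q hp hq =>
      intro n x hx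
      obtain ⟨m, hm⟩ := hp n x hx
      obtain ⟨m', hm'⟩ := hq n x hx
      exact ⟨max m m', by
        rw [map_add, add_smul]
        exact add_mem (seq_mono b Q (le_max_left m m') hm) (seq_mono b Q (le_max_right m m') hm')⟩
    | mul_X p k hp =>
      intro n x hx
      rw [map_mul, hb, mul_smul]
      exact hp (n + 1) _ (smul_mem_seq b Q k hx)
  have hx : x ∈ Submodule.span B (Y : Set N) := hgen ▸ trivial
  induction hx using Submodule.span_induction with
  | mem y hy => exact ⟨0, hY hy⟩
  | zero => exact ⟨0, zero_mem _⟩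
  | add y z _ _ hy hz =>
    obtain ⟨m, hm⟩ := hy
    obtain ⟨m', hm'⟩ := hz
    exact ⟨max m m', add_mem (seq_mono b Q (le_max_left m m') hm) (seq_mono b Q (le_max_right m m') hm')⟩
  | smul c y _ hy =>
    obtain ⟨m, hm⟩ := hy
    exact hS c m y hm

end Seq

variable {R A B N : Type u} [CommRing R] [IsDomain R] [CommRing A] [CommRing B] [Algebra R A]
  [Algebra A B] [Algebra R B] [IsScalarTower R A B] [Algebra.FiniteType R A]
  [AddCommGroup N] [Module B N] [Module A N] [Module R N] [IsScalarTower A B N] [IsScalarTower R A N]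
  {r : ℕ} (b : Fin r → B) (Q : Submodule A N)

omit [IsDomain R] [Algebra R B] [IsScalarTower R A B] [Algebra.FiniteType R A] [Module R N]
  [IsScalarTower R A N] [Algebra R A] in
theorem coeff_C_mul_X_smul (c : B) (p : PolynomialModule B N) (n : ℕ) :
    ((Polynomial.C c * Polynomial.X) • p).coeff n = if 1 ≤ n then c • p.coeff (n - 1) else 0 := by
  rw [← pow_one Polynomial.X, Polynomial.C_mul_X_pow_eq_monomial, PolynomialModule.monomial_smul_apply]

/-- After inverting some `f ≠ 0`, the successive quotients of `seq b Q` are flat. -/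
theorem exists_flat_gr (hQ : Q.FG) {k₀ : Fin r} (hk₀ : b k₀ = 1) :
    ∃ f : R, f ≠ 0 ∧ ∀ (g : R) (n : ℕ), Module.Flat (Localization.Away (f * g))
      (Localization.Away (f * g) ⊗[R]
        ((seq b Q (n + 1)).restrictScalars R ⧸
          ((seq b Q n).restrictScalars R).comap ((seq b Q (n + 1)).restrictScalars R).subtype)) := by
  classical
  let S := MvPolynomial (Fin r) A
  let ψ : S →ₐ[A] Polynomial B := MvPolynomial.aeval fun k => Polynomial.C (b k) * Polynomial.X
  let PM := PolynomialModule B N
  let instS : Module S PM := Module.compHom PM ψ.toRingHom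
  have hsmul : ∀ (s : S) (p : PM), s • p = ψ s • p := fun _ _ => rfl
  have hA : ∀ (a : A) (p : PM), (MvPolynomial.C a : S) • p = a • p := fun a p => by
    rw [hsmul, ← MvPolynomial.algebraMap_eq, AlgHom.commutes, algebraMap_smul]
  have : IsScalarTower A S PM := ⟨fun a s p => by
    rw [hsmul, map_smul, smul_assoc, ← hsmul]⟩
  have : IsScalarTower R A PM := ⟨fun x a p => PolynomialModule.coeff_injective (Finsupp.ext fun i =>
    smul_assoc x a (p.coeff i))⟩
  have : IsScalarTower R S PM := ⟨fun x s p => by
    rw [← algebraMap_smul A x s, smul_assoc, algebraMap_smul]⟩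
  let Big : Submodule A PM :=
    { carrier := {p | ∀ i, p.coeff i ∈ seq b Q i}
      add_mem' := fun hp hq i => add_mem (hp i) (hq i)
      zero_mem' := fun i => zero_mem _
      smul_mem' := fun a p hp i => Submodule.smul_mem _ a (hp i) }
  let Small : Submodule A PM :=
    { carrier := {p | p.coeff 0 = 0 ∧ ∀ i, p.coeff (i + 1) ∈ seq b Q i}
      add_mem' := fun {p q} hp hq => ⟨by
        show p.coeff 0 + q.coeff 0 = 0
        rw [hp.1, hq.1, add_zero], fun i => add_mem (hp.2 i) (hq.2 i)⟩
      zero_mem' := ⟨rfl, fun i => zero_mem _⟩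
      smul_mem' := fun a p hp => ⟨by
        show a • p.coeff 0 = 0
        rw [hp.1, smul_zero], fun i => Submodule.smul_mem _ a (hp.2 i)⟩ }
  have hXBig : ∀ (k : Fin r) (p : PM), p ∈ Big → (MvPolynomial.X k : S) • p ∈ Big := fun k p hp i => by
    rw [hsmul, show ψ (MvPolynomial.X k) = _ from MvPolynomial.aeval_X _ k, coeff_C_mul_X_smul]
    split_ifs with hi
    · obtain ⟨i, rfl⟩ := Nat.exists_eq_add_of_le' hi
      exact smul_mem_seq b Q k (hp i)
    · exact zero_mem _
  have hXSmall : ∀ (k : Fin r) (p : PM), p ∈ Small → (MvPolynomial.X k : S) • p ∈ Small := fun k p hp => by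
    refine ⟨?_, fun i => ?_⟩
    · rw [hsmul, show ψ (MvPolynomial.X k) = _ from MvPolynomial.aeval_X _ k, coeff_C_mul_X_smul,
        if_neg (by omega)]
    · rw [hsmul, show ψ (MvPolynomial.X k) = _ from MvPolynomial.aeval_X _ k, coeff_C_mul_X_smul,
        if_pos (by omega), Nat.add_sub_cancel]
      rcases i with _ | i
      · rw [hp.1, smul_zero]; exact zero_mem _
      · exact smul_mem_seq b Q k (hp.2 i)
  have hstab : ∀ (T : Submodule A PM), (∀ k p, p ∈ T → (MvPolynomial.X k : S) • p ∈ T) →
      ∀ (s : S) p, p ∈ T → s • p ∈ T := fun T hT s => by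
    induction s using MvPolynomial.induction_on with
    | C a => exact fun p hp => by rw [hA]; exact T.smul_mem a hp
    | add s t hs ht => exact fun p hp => by rw [add_smul]; exact T.add_mem (hs p hp) (ht p hp)
    | mul_X s k hs => exact fun p hp => by rw [mul_smul]; exact hs _ (hT k p hp)
  let BigS : Submodule S PM :=
    { Big.toAddSubmonoid with smul_mem' := fun s p hp => hstab Big hXBig s p hp }
  let SmallS : Submodule S PM :=
    { Small.toAddSubmonoid with smul_mem' := fun s p hp => hstab Small hXSmall s p hp }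
  obtain ⟨G₀, hG₀⟩ := hQ
  have hBig : BigS = Submodule.span S ((G₀.image fun x => PolynomialModule.single B 0 x : Finset PM) : Set PM) := by
    let Sp : Submodule A PM :=
      (Submodule.span S ((G₀.image fun x => PolynomialModule.single B 0 x : Finset PM) : Set PM)).restrictScalars A
    have hsingle : ∀ i, seq b Q i ≤ Sp.comap ((PolynomialModule.lsingle B i).restrictScalars A) := by
      intro i
      induction i with
      | zero =>
        show Q ≤ _
        rw [← hG₀, Submodule.span_le]
        intro x hx
        exact Submodule.subset_span (Finset.mem_coe.2 (Finset.mem_image.2 ⟨x, hx, rfl⟩))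
      | succ i ih =>
        have hX : ∀ (k : Fin r) (x : N), x ∈ seq b Q i →
            PolynomialModule.single B (i + 1) (b k • x) ∈ Sp := fun k x hx => by
          have := Submodule.smul_mem (Submodule.span S _) (MvPolynomial.X k : S) (ih hx)
          rw [hsmul, show ψ (MvPolynomial.X k) = _ from MvPolynomial.aeval_X _ k,
            ← pow_one Polynomial.X, Polynomial.C_mul_X_pow_eq_monomial] at this
          rw [show PolynomialModule.single B (i + 1) (b k • x) = (Polynomial.monomial 1 (b k)) •
            PolynomialModule.single B i x by rw [PolynomialModule.monomial_smul_single, Nat.add_comm]]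
          exact this
        refine sup_le ?_ (iSup_le fun k => ?_)
        · intro x hx
          have := hX k₀ x hx
          rw [hk₀, one_smul] at this
          exact this
        · rintro _ ⟨x, hx, rfl⟩
          exact hX k x hx
    refine le_antisymm (fun p hp => ?_) ?_
    · have hsum : p = ∑ i ∈ p.coeff.support, PolynomialModule.single B i (p.coeff i) :=
        PolynomialModule.coeff_injective (by
          rw [PolynomialModule.coeff_sum]
          simp only [PolynomialModule.coeff_single]
          exact (Finsupp.sum_single p.coeff).symm)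
      rw [hsum]
      exact Submodule.sum_mem _ fun i _ => hsingle i (hp i)
    · rw [Submodule.span_le]
      intro p hp
      obtain ⟨x, hx, rfl⟩ := Finset.mem_image.1 (Finset.mem_coe.1 hp)
      intro i
      show (PolynomialModule.single B 0 x).coeff i ∈ seq b Q i
      rw [PolynomialModule.coeff_single, Finsupp.single_apply]
      split_ifs with hi
      · subst hi
        exact hG₀ ▸ Submodule.subset_span hx
      · exact zero_mem _
  let G := BigS ⧸ SmallS.comap BigS.subtype
  have : Module.Finite S BigS := Module.Finite.iff_fg.2 (hBig ▸ Submodule.fg_span (Finset.finite_toSet _))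
  have : Module.Finite S G := inferInstance
  have : Algebra.FiniteType R S := Algebra.FiniteType.trans (S := A) inferInstance inferInstance
  obtain ⟨f, hf, hfree, -, -, -⟩ := Groth.Agent.S0389.result (R := R) (S := S) (M := G)
  refine ⟨f, hf, fun g n => ?_⟩
  have hG : Module.Free (Localization.Away (f * g)) (Localization.Away (f * g) ⊗[R] G) :=
    EGA43.GenFree.free_refine f g G hfree
  let one : (seq b Q (n + 1)).restrictScalars R →ₗ[R] BigS :=
    { toFun := fun x => ⟨PolynomialModule.single B (n + 1) x.1, fun i => by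
        show (PolynomialModule.single B (n + 1) x.1).coeff i ∈ seq b Q i
        rw [PolynomialModule.coeff_single, Finsupp.single_apply]
        split_ifs with hi
        · subst hi; exact x.2
        · exact zero_mem _⟩
      map_add' := fun x y => Subtype.ext (PolynomialModule.single_add (R := B) (n + 1) x.1 y.1)
      map_smul' := fun a x => Subtype.ext (PolynomialModule.coeff_injective
        (Finsupp.smul_single a (n + 1) x.1).symm) }
  let Kn := ((seq b Q n).restrictScalars R).comap ((seq b Q (n + 1)).restrictScalars R).subtype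
  let ι : ((seq b Q (n + 1)).restrictScalars R ⧸ Kn) →ₗ[R] G :=
    Submodule.liftQ Kn ((Submodule.mkQ _).restrictScalars R ∘ₗ one) fun x hx => by
      refine LinearMap.mem_ker.2 ((Submodule.Quotient.mk_eq_zero _).2 ⟨?_, fun i => ?_⟩)
      · show (PolynomialModule.single B (n + 1) x.1).coeff 0 = 0
        rw [PolynomialModule.coeff_single, Finsupp.single_apply, if_neg (by omega)]
      · show (PolynomialModule.single B (n + 1) x.1).coeff (i + 1) ∈ seq b Q i
        rw [PolynomialModule.coeff_single, Finsupp.single_apply]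
        split_ifs with hi
        · obtain rfl : n = i := by omega
          exact hx
        · exact zero_mem _
  let co : BigS →ₗ[R] ((seq b Q (n + 1)).restrictScalars R ⧸ Kn) :=
    { toFun := fun p => Submodule.Quotient.mk ⟨p.1.coeff (n + 1), p.2 (n + 1)⟩
      map_add' := fun p q => rfl
      map_smul' := fun a p => rfl }
  let ρ : G →ₗ[R] ((seq b Q (n + 1)).restrictScalars R ⧸ Kn) :=
    Submodule.liftQ ((SmallS.comap BigS.subtype).restrictScalars R) co (fun p hp =>
      LinearMap.mem_ker.2 ((Submodule.Quotient.mk_eq_zero _).2 (hp.2 n))) ∘ₗ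
      (Submodule.Quotient.restrictScalarsEquiv R _).symm.toLinearMap
  have hρι : ρ ∘ₗ ι = LinearMap.id := by
    refine Submodule.linearMap_qext _ (LinearMap.ext fun x => ?_)
    show Submodule.Quotient.mk _ = Submodule.Quotient.mk x
    refine congrArg _ (Subtype.ext ?_)
    show (PolynomialModule.single B (n + 1) x.1).coeff (n + 1) = x.1
    rw [PolynomialModule.coeff_single, Finsupp.single_eq_same]
  exact Module.Flat.of_retract (ι.baseChange (Localization.Away (f * g))) (ρ.baseChange _)
    (by rw [← LinearMap.baseChange_comp, hρι, LinearMap.baseChange_id])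

/-- Generic flatness of `N ⧸ P`. -/
theorem exists_flat_quotient [Algebra.FiniteType A B] [Module.Finite B N] (P : Submodule A N) (hP : P.FG) :
    ∃ f : R, f ≠ 0 ∧ Module.Flat (Localization.Away f)
      (Localization.Away f ⊗[R] (N ⧸ P.restrictScalars R)) := by
  classical
  obtain ⟨r, π, hπ⟩ := (Algebra.FiniteType.iff_quotient_mvPolynomial'' (R := A) (S := B)).1 ‹_›
  let b : Fin (r + 1) → B := Fin.cons 1 fun k => π (MvPolynomial.X k)
  let π' : MvPolynomial (Fin (r + 1)) A →ₐ[A] B := MvPolynomial.aeval b
  have hπ' : Surjective π' := fun c => by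
    obtain ⟨q, rfl⟩ := hπ c
    refine ⟨MvPolynomial.rename Fin.succ q, ?_⟩
    rw [MvPolynomial.aeval_rename, ← MvPolynomial.aeval_unique π |>.symm]
    rfl
  obtain ⟨Y, hY⟩ := (Module.Finite.fg_top : (⊤ : Submodule B N).FG)
  let Q : Submodule A N := P ⊔ Submodule.span A (Y : Set N)
  have hQ : Q.FG := hP.sup ⟨Y, rfl⟩
  obtain ⟨f₁, hf₁, hgr⟩ := exists_flat_gr (R := R) b Q hQ (k₀ := 0) rfl
  let Q₀ := Q ⧸ P.comap Q.subtype
  have : Module.Finite A Q := Module.Finite.iff_fg.2 hQ
  have : Module.Finite A Q₀ := inferInstance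
  obtain ⟨f₂, hf₂, hfree, -, -, -⟩ := Groth.Agent.S0389.result (R := R) (S := A) (M := Q₀)
  refine ⟨f₁ * f₂, mul_ne_zero hf₁ hf₂, ?_⟩
  let L := Localization.Away (f₁ * f₂)
  have hfreeL : Module.Free L (L ⊗[R] Q₀) := EGA43.GenFree.free_refine' f₁ f₂ Q₀ hfree
  let Pn : ℕ → Submodule R (N ⧸ P.restrictScalars R) := fun n =>
    ((seq b Q n).restrictScalars R).map (P.restrictScalars R).mkQ
  refine flat_baseChange_of_iUnion Pn (fun m n h => Submodule.map_mono fun x hx => seq_mono b Q h hx) (fun c => ?_) ?_
  · obtain ⟨x, rfl⟩ := Submodule.mkQ_surjective _ c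
    obtain ⟨n, hn⟩ := exists_mem_seq b Q π' hπ' (fun k => MvPolynomial.aeval_X _ k)
      (Y := Y) (fun y hy => le_sup_right (a := P) (Submodule.subset_span hy)) hY x
    exact ⟨n, x, hn, rfl⟩
  · intro n
    induction n with
    | zero =>
      let ψ : Q →ₗ[R] Pn 0 :=
        ((P.restrictScalars R).mkQ ∘ₗ (Q.subtype.restrictScalars R)).codRestrict (Pn 0) (fun x => ⟨x.1, x.2, rfl⟩)
      have hψ : (P.comap Q.subtype).restrictScalars R ≤ LinearMap.ker ψ := fun x hx =>
        LinearMap.mem_ker.2 (Subtype.ext ((Submodule.Quotient.mk_eq_zero (P.restrictScalars R)).2 hx))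
      let φ : Q₀ →ₗ[R] Pn 0 :=
        Submodule.liftQ ((P.comap Q.subtype).restrictScalars R) ψ hψ ∘ₗ
          (Submodule.Quotient.restrictScalarsEquiv R _).symm.toLinearMap
      have hφ : Bijective φ := by
        refine ⟨(injective_iff_map_eq_zero φ).2 fun z hz => ?_, ?_⟩
        · obtain ⟨x, rfl⟩ := Submodule.mkQ_surjective _ z
          exact (Submodule.Quotient.mk_eq_zero _).2 ((Submodule.Quotient.mk_eq_zero (P.restrictScalars R)).1 (congrArg Subtype.val hz))
        · rintro ⟨_, x, hx, rfl⟩
          exact ⟨Submodule.Quotient.mk ⟨x, hx⟩, Subtype.ext rfl⟩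
      exact Module.Flat.of_linearEquiv
        (TensorProduct.AlgebraTensorModule.congr (LinearEquiv.refl L L) (LinearEquiv.ofBijective φ hφ).symm)
    | succ n ih =>
      have : Module.Flat L (L ⊗[R] Pn n) := ih
      have := hgr f₂ n
      let i : Pn n →ₗ[R] Pn (n + 1) :=
        Submodule.inclusion (Submodule.map_mono fun x hx => seq_mono b Q n.le_succ hx)
      let Kn := ((seq b Q n).restrictScalars R).comap ((seq b Q (n + 1)).restrictScalars R).subtype
      let μ : (seq b Q (n + 1)).restrictScalars R →ₗ[R] Pn (n + 1) :=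
        ((P.restrictScalars R).mkQ ∘ₗ ((seq b Q (n + 1)).restrictScalars R).subtype).codRestrict _
          fun x => ⟨x.1, x.2, rfl⟩
      have hμ : Surjective μ := by rintro ⟨_, x, hx, rfl⟩; exact ⟨⟨x, hx⟩, rfl⟩
      have hker : LinearMap.ker μ ≤ LinearMap.ker Kn.mkQ := fun x hx => by
        rw [Submodule.ker_mkQ]
        have : x.1 ∈ P := (Submodule.Quotient.mk_eq_zero (P.restrictScalars R)).1 (congrArg Subtype.val hx)
        exact seq_mono b Q (Nat.zero_le n) (le_sup_left (b := Submodule.span A (Y : Set N)) this)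
      let p : Pn (n + 1) →ₗ[R] _ := (LinearMap.ker μ).liftQ Kn.mkQ hker ∘ₗ (μ.quotKerEquivOfSurjective hμ).symm.toLinearMap
      have hpμ : ∀ x, p (μ x) = Submodule.Quotient.mk x := fun x => by
        simp [p, LinearMap.quotKerEquivOfSurjective_symm_apply]
      refine flat_baseChange_of_exact (N₂ := Pn (n + 1)) i p ?_ ?_ (Submodule.inclusion_injective _)
      · intro z
        obtain ⟨x, rfl⟩ := hμ z
        rw [hpμ, Submodule.Quotient.mk_eq_zero]
        constructor
        · intro hx
          exact ⟨⟨_, x.1, hx, rfl⟩, rfl⟩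
        · rintro ⟨⟨_, y, hy, rfl⟩, hy'⟩
          have : y - x.1 ∈ P := (Submodule.Quotient.eq (P.restrictScalars R)).1 (congrArg Subtype.val hy')
          have h1 : y - x.1 ∈ seq b Q n := seq_mono b Q (Nat.zero_le n) (le_sup_left (b := Submodule.span A (Y : Set N)) this)
          show x.1 ∈ seq b Q n
          have h2 := Submodule.sub_mem _ (show y ∈ seq b Q n from hy) h1
          rwa [sub_sub_cancel] at h2
      · intro z
        obtain ⟨x, rfl⟩ := Submodule.mkQ_surjective _ z
        exact ⟨μ x, hpμ x⟩

end Groth.Agent.FlatMorGF
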